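import Cfsg.Agent.H65.MonsterThree.Cent
import Cfsg.Agent.H65.MonsterFive.Swap
import Cfsg.Agent.H61.ThreeCycle

/-!
The centraliser of an element of shape 3^8 modulo that element and the centre is the alternating
group of degree nine.
-/

set_option autoImplicit false
set_option maxRecDepth 100000

namespace Cfsg.Agent.H65.MonsterThree

open Cfsg Cfsg.Agent.Golay Cfsg.Agent.H92.LeechTwo
open Cfsg.Agent.H65.MonsterFive (negEl negEl_smul negEl_center negEl_ne_one)

theorem word_checks : cycW.map (fun w => (List.range 9).map fun k =>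
      (List.foldl (fun x a => gpFun (Fin.ofNat 3 a) x) (Fin.ofNat 9 k) w).1) =
    [[1, 2, 0, 3, 4, 5, 6, 7, 8], [1, 3, 2, 0, 4, 5, 6, 7, 8], [1, 4, 2, 3, 0, 5, 6, 7, 8],
     [1, 5, 2, 3, 4, 0, 6, 7, 8], [1, 6, 2, 3, 4, 5, 0, 7, 8], [1, 7, 2, 3, 4, 5, 6, 0, 8],
     [1, 8, 2, 3, 4, 5, 6, 7, 0]] := by
  decide +kernel

theorem word_mem (w : List ℕ) : ∃ g : good, ∀ k : Fin 9,
    nineHom g k = List.foldl (fun x a => gpFun (Fin.ofNat 3 a) x) k w := by
  induction w with
  | nil => exact ⟨1, fun k => by rw [map_one]; rfl⟩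
  | cons a r ih =>
    obtain ⟨g, hg⟩ := ih
    refine ⟨g * ⟨⟨gen (Fin.ofNat 3 a), gen_mem _⟩, gen_good _⟩, fun k => ?_⟩
    rw [map_mul, Equiv.Perm.mul_apply, hg, nineHom_gen, List.foldl_cons]

theorem cycle_check : ∀ i : Fin 7, ∀ k : Fin 9,
    (H61.cyc (0 : Fin 9) 1 ⟨i.1 + 2, by omega⟩ k).1 =
      ((cycW.map (fun w => (List.range 9).map fun k =>
        (List.foldl (fun x a => gpFun (Fin.ofNat 3 a) x) (Fin.ofNat 9 k) w).1)).getD i.1 []).getD k.1 0 := by
  rw [word_checks]
  decide +kernel

theorem cyc_mem_range (u : Fin 9) (h0 : u ≠ 0) (h1 : u ≠ 1) : H61.cyc (0 : Fin 9) 1 u ∈ nineHom.range := by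
  obtain ⟨i, hi⟩ : ∃ i : Fin 7, i.1 + 2 = u.1 := by
    have h0' : u.1 ≠ 0 := fun e => h0 (Fin.ext e)
    have h1' : u.1 ≠ 1 := fun e => h1 (Fin.ext e)
    exact ⟨⟨u.1 - 2, by omega⟩, by simp; omega⟩
  rw [show u = ⟨i.1 + 2, by omega⟩ from Fin.ext hi.symm]
  obtain ⟨g, hg⟩ := word_mem (cycW.getD i.1 [])
  refine ⟨g, Equiv.ext fun k => Fin.ext ?_⟩
  rw [cycle_check i k, hg]
  have hlen : i.1 < cycW.length := by
    have : cycW.length = 7 := by decide +kernel
    omega
  rw [List.getD_eq_getElem?_getD (l := List.map _ _), List.getElem?_map,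
    List.getElem?_eq_getElem hlen, Option.map_some, Option.getD_some,
    List.getD_eq_getElem?_getD (l := List.map _ _), List.getElem?_map,
    List.getElem?_range k.2, Option.map_some, Option.getD_some, List.getD_eq_getElem _ _ hlen,
    show Fin.ofNat 9 k.1 = k from Fin.ext (Nat.mod_eq_of_lt k.2)]

theorem alt_le_range : alternatingGroup (Fin 9) ≤ nineHom.range := by
  rw [← Equiv.Perm.closure_three_cycles_eq_alternating, Subgroup.closure_le]
  intro σ hσ
  obtain ⟨a, b, c, hab, hbc, hac, rfl⟩ := H61.exists_cyc_of_isThreeCycle hσ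
  exact H61.altOn_of_pair (H := nineHom.range) (U := Finset.univ) (s := (0 : Fin 9)) (t := 1)
    (by decide) (fun u _ => cyc_mem_range u) a (Finset.mem_univ _) b (Finset.mem_univ _) c
    (Finset.mem_univ _) hab hbc hac

theorem card_alt : Nat.card (alternatingGroup (Fin 9)) = 181440 := by
  have := two_mul_nat_card_alternatingGroup (α := Fin 9)
  rw [Nat.card_perm, Nat.card_eq_fintype_card (α := Fin 9), Fintype.card_fin] at this
  rw [show Nat.factorial 9 = 362880 from rfl] at this
  omega

theorem negEl_mem : negEl ∈ cent :=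
  Subgroup.mem_centralizer_singleton_iff.2 (Subgroup.mem_center_iff.1 negEl_center three).symm

theorem shHom_three : shHom ⟨three, three_mem⟩ = 1 :=
  shHom_eq_one fun i => by rw [show (⟨three, three_mem⟩ : cent).1 = three from rfl, three_Rv]; exact Cg.refl _

theorem shHom_neg : shHom ⟨negEl, negEl_mem⟩ = 1 :=
  shHom_eq_one fun i => by
    rw [show (⟨negEl, negEl_mem⟩ : cent).1 = negEl from rfl, negEl_smul]; exact Cg.neg_self _

theorem orderOf_three : orderOf three = 3 :=
  haveI : Fact (Nat.Prime 3) := ⟨by norm_num⟩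
  orderOf_eq_prime three_pow_three three_ne_one

theorem ker_card_ge : 6 ∣ Nat.card nineHom.ker := by
  set f : good := ⟨⟨three, three_mem⟩, good_of_trivial shHom_three⟩
  set n : good := ⟨⟨negEl, negEl_mem⟩, good_of_trivial shHom_neg⟩
  have hf : f ∈ nineHom.ker := nineHom_eq_one shHom_three
  have hn : n ∈ nineHom.ker := nineHom_eq_one shHom_neg
  have ho : orderOf f = 3 := by rw [← Subgroup.orderOf_coe, ← Subgroup.orderOf_coe]; exact orderOf_three
  have h2 : orderOf n = 2 := by
    haveI : Fact (Nat.Prime 2) := ⟨Nat.prime_two⟩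
    refine orderOf_eq_prime (Subtype.ext (Subtype.ext (co0_ext fun v => ?_)))
      fun e => negEl_ne_one (congrArg (fun u : good => u.1.1) e)
    show (negEl ^ 2) • v = (1 : Co0) • v
    rw [pow_two, mul_smul, negEl_smul, negEl_smul, neg_neg, one_smul]
  have d3 := Subgroup.orderOf_dvd_natCard nineHom.ker hf
  have d2 := Subgroup.orderOf_dvd_natCard nineHom.ker hn
  rw [ho] at d3
  rw [h2] at d2
  exact Nat.Coprime.mul_dvd_of_dvd_of_dvd (by norm_num : Nat.Coprime 3 2) d3 d2

theorem counts : Nat.card nineHom.ker = 6 ∧ good = ⊤ ∧ nineHom.range = alternatingGroup (Fin 9) := by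
  have h1 := nineHom.ker.card_mul_index
  rw [Subgroup.index_ker] at h1
  have hg : Nat.card good ≤ Nat.card cent := Subgroup.card_le_card_group good
  have hk : 6 ≤ Nat.card nineHom.ker := Nat.le_of_dvd Nat.card_pos ker_card_ge
  have hr : Nat.card (alternatingGroup (Fin 9)) ≤ Nat.card nineHom.range :=
    Subgroup.card_le_of_le alt_le_range
  rw [card_alt] at hr
  have hc := card_cent_le
  have hprod := Nat.mul_le_mul hk hr
  have hker : Nat.card nineHom.ker = 6 := by
    by_contra hne
    have : 7 ≤ Nat.card nineHom.ker := by omega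
    have := Nat.mul_le_mul this hr
    omega
  refine ⟨hker, Subgroup.eq_top_of_le_card _ (by omega), ?_⟩
  rw [hker] at h1
  exact (Subgroup.eq_of_le_of_card_ge alt_le_range (by rw [card_alt]; omega)).symm

/-- the action of the centraliser -/
noncomputable def altHom : cent →* alternatingGroup (Fin 9) :=
  (nineHom.comp ((Subgroup.topEquiv.symm.trans (MulEquiv.subgroupCongr counts.2.1.symm)).toMonoidHom)).codRestrict
    _ fun _ => counts.2.2.le ⟨_, rfl⟩

theorem altHom_surjective : Function.Surjective altHom := by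
  rintro ⟨w, hw⟩
  obtain ⟨g, hg⟩ := counts.2.2.ge hw
  exact ⟨g.1, Subtype.ext ((congrArg nineHom (Subtype.ext rfl)).trans hg)⟩

theorem altHom_eq_one {g : cent} (h : shHom g = 1) : altHom g = 1 :=
  Subtype.ext (nineHom_eq_one h)

/-- the kernel maps onto the cyclic group of the element modulo the centre -/
theorem altHom_kernel {g : cent} (h : altHom g = 1) :
    (QuotientGroup.mk g.1 : Spor.Co1) ∈ Subgroup.zpowers (QuotientGroup.mk three : Spor.Co1) := by
  classical
  let π : Co0 →* Spor.Co1 := QuotientGroup.mk' (Subgroup.center Co0)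
  let j : good →* Co0 := cent.subtype.comp good.subtype
  have hj : Function.Injective j := fun a b e => Subtype.ext (Subtype.ext e)
  set M := nineHom.ker.map j
  have hM : Nat.card M = 6 := by rw [Subgroup.card_map_of_injective hj, counts.1]
  have hfM : three ∈ M := ⟨⟨⟨three, three_mem⟩, good_of_trivial shHom_three⟩, nineHom_eq_one shHom_three, rfl⟩
  have hcM : Subgroup.center Co0 ≤ M := by
    intro c hc
    rcases eq_or_ne c 1 with rfl | hc1
    · exact one_mem M
    · obtain ⟨u, -, huniq⟩ := (Nat.card_eq_two_iff' (1 : Subgroup.center Co0)).1 card_center_co0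
      have e : c = negEl := congrArg Subtype.val ((huniq ⟨c, hc⟩ fun e => hc1 (congrArg Subtype.val e)).trans
        (huniq ⟨negEl, negEl_center⟩ fun e => negEl_ne_one (congrArg Subtype.val e)).symm)
      rw [e]
      exact ⟨⟨⟨negEl, negEl_mem⟩, good_of_trivial shHom_neg⟩, nineHom_eq_one shHom_neg, rfl⟩
  have hg' : g ∈ good := counts.2.1 ▸ Subgroup.mem_top g
  have hgM : g.1 ∈ M := ⟨⟨g, hg'⟩, congrArg Subtype.val h, rfl⟩
  have h1 := Cfsg.Agent.H92.MonsterCross.card_map_mul π M
  rw [show π.ker = Subgroup.center Co0 from QuotientGroup.ker_mk' _, inf_eq_right.2 hcM, card_center_co0,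
    hM] at h1
  have hle : Subgroup.zpowers (π three) ≤ M.map π :=
    (Subgroup.zpowers_le).2 ⟨three, hfM, rfl⟩
  have hz : Nat.card (Subgroup.zpowers (π three)) = 3 := by
    rw [Nat.card_zpowers]
    haveI : Fact (Nat.Prime 3) := ⟨by norm_num⟩
    refine orderOf_eq_prime (by rw [← map_pow, three_pow_three, map_one]) fun e => ?_
    have h2 : three ^ 2 = 1 := by
      have hcen : three ∈ Subgroup.center Co0 := (QuotientGroup.eq_one_iff three).1 e
      have := orderOf_dvd_natCard (⟨three, hcen⟩ : Subgroup.center Co0)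
      rw [card_center_co0, ← Subgroup.orderOf_coe, orderOf_three] at this
      omega
    have := orderOf_dvd_of_pow_eq_one h2
    rw [orderOf_three] at this
    omega
  show π g.1 ∈ Subgroup.zpowers (π three)
  rw [Subgroup.eq_of_le_of_card_ge hle (by rw [hz]; omega)]
  exact ⟨g.1, hgM, rfl⟩

/-- the quotient has no nontrivial normal 2-subgroup -/
theorem alt_two_normal (N : Subgroup (alternatingGroup (Fin 9))) [N.Normal] (hN : IsPGroup 2 N) :
    N = ⊥ := by
  haveI : IsSimpleGroup (alternatingGroup (Fin 9)) := alternatingGroup.isSimpleGroup (by simp)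
  rcases (inferInstance : N.Normal).eq_bot_or_eq_top with h | h
  · exact h
  · exfalso
    obtain ⟨n, hn⟩ := IsPGroup.iff_card.1 hN
    rw [h, Subgroup.card_top, card_alt] at hn
    have : 3 ∣ 2 ^ n := ⟨60480, by omega⟩
    exact absurd (Nat.prime_three.dvd_of_dvd_pow this) (by norm_num)

end Cfsg.Agent.H65.MonsterThree
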