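import Cfsg.Agent.H65.MonsterThree.Perm
import Cfsg.Agent.H65.MonsterThree.SylData

/-!
An element of order three of the Mathieu group of degree 24 is conjugate to the fixed-point-free
one or is central in a Sylow 3-subgroup.
-/

set_option autoImplicit false
set_option maxRecDepth 100000

namespace Cfsg.Agent.H65.MonsterThree

open Cfsg Cfsg.Agent.Golay
open scoped Pointwise

/-- an element of the Sylow subgroup as a table -/
def sylT (i : Fin 27) : ℕ := sylL.getD i.1 0

theorem sylT_ok : ∀ i : Fin 27, inM24 (sylT i) = true := by decide +kernel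

/-- an element of the Sylow subgroup -/
noncomputable def sylEl (i : Fin 27) : M24 := ⟨mkPerm (sylT i), mem_M24_of_inM24 (sylT_ok i)⟩

theorem sylEl_apply (i : Fin 27) (q : GolayPt) : (sylEl i).1 q = tblFun (sylT i) q :=
  mkPerm_apply (validT_of_inM24 (sylT_ok i)) q

/-- the product -/
def mulIx (i j : Fin 27) : Fin 27 := Fin.ofNat 27 ((sylMul.getD i.1 []).getD j.1 0)

theorem mul_table : ∀ i j : Fin 27, ∀ q : GolayPt,
    tblFun (sylT (mulIx i j)) q = tblFun (sylT i) (tblFun (sylT j) q) := by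
  decide +kernel

theorem one_table : (∀ q : GolayPt, tblFun (sylT 0) q = q) ∧
    (∀ i : Fin 27, ∃ j, mulIx i j = 0) ∧
    (∀ i j : Fin 27, (∀ q : GolayPt, tblFun (sylT i) q = tblFun (sylT j) q) → i = j) := by
  decide +kernel

theorem sylEl_mul (i j : Fin 27) : sylEl i * sylEl j = sylEl (mulIx i j) :=
  Subtype.ext (Equiv.ext fun q => by
    show (sylEl i).1 ((sylEl j).1 q) = _
    rw [sylEl_apply, sylEl_apply, sylEl_apply, mul_table])

theorem sylEl_zero : sylEl 0 = 1 :=
  Subtype.ext (Equiv.ext fun q => by rw [sylEl_apply, one_table.1]; rfl)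

theorem sylEl_injective : Function.Injective sylEl := fun i j h => one_table.2.2 i j fun q => by
  rw [← sylEl_apply, ← sylEl_apply, h]

/-- the Sylow subgroup -/
noncomputable def sylSub : Subgroup M24 where
  carrier := Set.range sylEl
  one_mem' := ⟨0, sylEl_zero⟩
  mul_mem' := by
    rintro _ _ ⟨i, rfl⟩ ⟨j, rfl⟩
    exact ⟨_, (sylEl_mul i j).symm⟩
  inv_mem' := by
    rintro _ ⟨i, rfl⟩
    obtain ⟨j, hj⟩ := one_table.2.1 i
    exact ⟨j, (inv_eq_of_mul_eq_one_right (by rw [sylEl_mul, hj, sylEl_zero])).symm⟩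

theorem card_sylSub : Nat.card sylSub = 27 := by
  show Nat.card (Set.range sylEl) = 27
  rw [Nat.card_range_of_injective sylEl_injective, Nat.card_eq_fintype_card, Fintype.card_fin]

theorem conj_table : ∀ i : Fin 27, inM24 (sylConj.getD i.1 0) = true ∧
    ((sylTarget.getD i.1 0 < 27 ∧
      (∀ q : GolayPt, tblFun (sylConj.getD i.1 0) (tblFun (sylT i) q) =
        tblFun (sylT (Fin.ofNat 27 (sylTarget.getD i.1 0))) (tblFun (sylConj.getD i.1 0) q)) ∧
      ∀ j : Fin 27, mulIx (Fin.ofNat 27 (sylTarget.getD i.1 0)) j = mulIx j (Fin.ofNat 27 (sylTarget.getD i.1 0))) ∨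
    (sylTarget.getD i.1 0 = 27 ∧
      ∀ q : GolayPt, tblFun (sylConj.getD i.1 0) (tblFun (sylT i) q) =
        tauF (tblFun (sylConj.getD i.1 0) q))) := by
  decide +kernel

/-- the element of order three is conjugate to the fixed-point-free one or is central in a Sylow
subgroup -/
theorem three_classes {x : M24} (hx : orderOf x = 3) :
    (∃ g : M24, g * x * g⁻¹ = tau) ∨
      ∃ P : Subgroup M24, Nat.card P = 27 ∧ x ∈ P ∧ ∀ y ∈ P, x * y = y * x := by
  haveI : Fact (Nat.Prime 3) := ⟨Nat.prime_three⟩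
  have hp : IsPGroup 3 (Subgroup.zpowers x) := IsPGroup.of_card (n := 1) (by rw [Nat.card_zpowers, hx, pow_one])
  obtain ⟨R, hR⟩ := hp.exists_le_sylow
  have h27 : IsPGroup 3 sylSub := IsPGroup.of_card (n := 3) (by rw [card_sylSub]; rfl)
  have hi : ¬ 3 ∣ sylSub.index := by
    intro h
    have h1 := sylSub.card_mul_index
    rw [card_sylSub, card_M24] at h1
    have h2 : sylSub.index = 9067520 := by omega
    rw [h2] at h
    norm_num at h
  obtain ⟨h, hh⟩ := MulAction.exists_smul_eq M24 R (h27.toSylow hi)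
  have hmem : h * x * h⁻¹ ∈ sylSub := by
    have h1 : MulAut.conj h x ∈ (MulAut.conj h • (R : Subgroup M24)) :=
      Subgroup.smul_mem_pointwise_smul _ _ _ (hR (Subgroup.mem_zpowers x))
    rw [← Sylow.coe_subgroup_smul, hh] at h1
    exact h1
  obtain ⟨i, hi'⟩ := hmem
  obtain ⟨hok, hc⟩ := conj_table i
  set g : M24 := ⟨mkPerm (sylConj.getD i.1 0), mem_M24_of_inM24 hok⟩
  have hg : ∀ q, g.1 q = tblFun (sylConj.getD i.1 0) q := fun q => mkPerm_apply (validT_of_inM24 hok) q
  rcases hc with ⟨-, h1, h2⟩ | ⟨-, h1⟩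
  · right
    set c := sylEl (Fin.ofNat 27 (sylTarget.getD i.1 0))
    have e : g * (h * x * h⁻¹) = c * g := by
      rw [← hi']
      refine Subtype.ext (Equiv.ext fun q => ?_)
      show g.1 ((sylEl i).1 q) = c.1 (g.1 q)
      rw [sylEl_apply, hg, hg, sylEl_apply]
      exact h1 q
    have ex : x = MulAut.conj (g * h)⁻¹ c := by
      rw [← mul_inv_eq_iff_eq_mul] at e
      rw [MulAut.conj_apply, ← e]; group
    refine ⟨sylSub.map (MulAut.conj (g * h)⁻¹).toMonoidHom, ?_, ⟨c, ⟨_, rfl⟩, ex.symm⟩, ?_⟩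
    · rw [Subgroup.card_map_of_injective (MulAut.conj (g * h)⁻¹).injective, card_sylSub]
    · rintro _ ⟨_, ⟨j, rfl⟩, rfl⟩
      rw [MulEquiv.coe_toMonoidHom, ex, ← map_mul, ← map_mul]
      refine congrArg _ ?_
      rw [sylEl_mul, sylEl_mul, h2]
  · left
    refine ⟨g * h, ?_⟩
    have e : g * (h * x * h⁻¹) = tau * g := by
      rw [← hi']
      refine Subtype.ext (Equiv.ext fun q => ?_)
      show g.1 ((sylEl i).1 q) = tau.1 (g.1 q)
      rw [sylEl_apply, hg, hg, tau_apply]
      exact h1 q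
    rw [← mul_inv_eq_iff_eq_mul] at e
    rw [← e]; group

end Cfsg.Agent.H65.MonsterThree
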