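import Cfsg.Agent.H65.MonsterThree.Alt
import Cfsg.Agent.H65.MonsterThree.Sylow

/-!
Elements of order three of the joint centraliser of two commuting conjugates of the central
involution that are central in no Sylow 3-subgroup.
-/

set_option autoImplicit false

namespace Cfsg.Agent.H65.MonsterThree

open Cfsg Cfsg.Agent.Golay Cfsg.Agent.H92.LeechTwo Cfsg.Agent.H92.MonsterQ
open Cfsg.Agent.H65.MonsterFive (phi phi_eq_one lift_axis joint_image joint_le qm_facts orderOf_conj_eq)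

section generic

variable {G : Type*} [Group G] [Finite G]

theorem conj_zpowers {L : Subgroup G} (h9 : ¬ 9 ∣ Nat.card L) {b c : G} (hb : b ∈ L) (hc : c ∈ L)
    (hb3 : orderOf b = 3) (hc3 : orderOf c = 3) :
    ∃ l ∈ L, l * c * l⁻¹ ∈ Subgroup.zpowers b := by
  haveI : Fact (Nat.Prime 3) := ⟨by norm_num⟩
  have mk : ∀ d : L, orderOf (d : G) = 3 → ∃ P : Sylow 3 L, (P : Subgroup L) = Subgroup.zpowers d := by
    intro d hd
    rw [Subgroup.orderOf_coe] at hd
    have hp : IsPGroup 3 (Subgroup.zpowers d) := IsPGroup.of_card (n := 1) (by rw [Nat.card_zpowers, hd, pow_one])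
    have hi : ¬ 3 ∣ (Subgroup.zpowers d).index := fun h => by
      apply h9
      have := (Subgroup.zpowers d).card_mul_index
      rw [Nat.card_zpowers, hd] at this
      rw [← this]
      exact Nat.mul_dvd_mul_left 3 h
    exact ⟨hp.toSylow hi, rfl⟩
  obtain ⟨P, hP⟩ := mk ⟨b, hb⟩ hb3
  obtain ⟨R, hR⟩ := mk ⟨c, hc⟩ hc3
  obtain ⟨l, hl⟩ := MulAction.exists_smul_eq L R P
  refine ⟨l.1, l.2, ?_⟩
  have h1 : (⟨c, hc⟩ : L) ∈ (R : Subgroup L) := hR ▸ Subgroup.mem_zpowers _
  have h2 : MulAut.conj l ⟨c, hc⟩ ∈ (P : Subgroup L) := by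
    rw [← hl, Sylow.coe_subgroup_smul]
    exact Subgroup.smul_mem_pointwise_smul _ _ _ h1
  rw [hP] at h2
  obtain ⟨i, hi⟩ := Subgroup.mem_zpowers_iff.1 h2
  refine Subgroup.mem_zpowers_iff.2 ⟨i, ?_⟩
  exact congrArg (fun u : L => (u : G)) hi

/-- two elements of order three in one coset of a normalised group of order prime to three -/
theorem coset_three {N : Subgroup G} {b c : G} (hb : orderOf b = 3) (hN : ¬ 3 ∣ Nat.card N)
    (hn : ∀ n ∈ N, b * n * b⁻¹ ∈ N) (hc : orderOf c = 3) (hcb : c * b⁻¹ ∈ N) :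
    ∃ n ∈ N, n * c * n⁻¹ = b := by
  classical
  have hbpow : ∀ (k : ℕ), ∀ n ∈ N, b ^ k * n * (b ^ k)⁻¹ ∈ N := by
    intro k
    induction k with
    | zero => intro n hn; simpa using hn
    | succ k ih =>
      intro n hn'
      have := hn _ (ih n hn')
      rwa [show b * (b ^ k * n * (b ^ k)⁻¹) * b⁻¹ = b ^ (k + 1) * n * (b ^ (k + 1))⁻¹ by
        rw [pow_succ']; group] at this
  have hb3 : b ^ 3 = 1 := hb ▸ pow_orderOf_eq_one b
  let M : Subgroup G :=
    { carrier := {g | ∃ n ∈ N, ∃ k : ℕ, g = n * b ^ k}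
      one_mem' := ⟨1, one_mem N, 0, by simp⟩
      mul_mem' := by
        rintro _ _ ⟨n, hn', k, rfl⟩ ⟨m, hm, l, rfl⟩
        refine ⟨n * (b ^ k * m * (b ^ k)⁻¹), mul_mem hn' (hbpow k m hm), k + l, ?_⟩
        rw [pow_add]; group
      inv_mem' := by
        rintro _ ⟨n, hn', k, rfl⟩
        refine ⟨b ^ (2 * k) * n⁻¹ * (b ^ (2 * k))⁻¹, hbpow _ _ (inv_mem hn'), 2 * k, ?_⟩
        have : (b ^ k)⁻¹ = b ^ (2 * k) := by
          refine inv_eq_of_mul_eq_one_right ?_
          rw [← pow_add, show k + 2 * k = 3 * k by ring, pow_mul, hb3, one_pow]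
        rw [mul_inv_rev, this, inv_mul_cancel_right] }
  have hmod : ∀ k : ℕ, b ^ k = b ^ (k % 3) := fun k => by rw [← hb, pow_mod_orderOf]
  have h9 : ¬ 9 ∣ Nat.card M := by
    have hle : Nat.card M ≤ Nat.card N * 3 := by
      have hs : Function.Surjective (fun p : N × Fin 3 =>
          (⟨p.1.1 * b ^ p.2.1, p.1.1, p.1.2, p.2.1, rfl⟩ : M)) := by
        rintro ⟨g, n, hn', k, rfl⟩
        exact ⟨(⟨n, hn'⟩, ⟨k % 3, Nat.mod_lt _ (by norm_num)⟩), Subtype.ext (by
          show n * b ^ (k % 3) = n * b ^ k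
          rw [← hmod])⟩
      have := Nat.card_le_card_of_surjective _ hs
      rwa [Nat.card_prod, Nat.card_eq_fintype_card (α := Fin 3), Fintype.card_fin] at this
    have hNM : N ≤ M := fun n hn' => ⟨n, hn', 0, by simp⟩
    have hbM : b ∈ M := ⟨1, one_mem N, 1, by simp⟩
    have h3 : 3 * Nat.card N ∣ Nat.card M := Nat.Coprime.mul_dvd_of_dvd_of_dvd
      ((Nat.Prime.coprime_iff_not_dvd (by norm_num)).2 hN)
      (hb ▸ Subgroup.orderOf_dvd_natCard M hbM) (Subgroup.card_dvd_of_le hNM)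
    have hM : Nat.card M = 3 * Nat.card N := by
      have := Nat.le_of_dvd Nat.card_pos h3
      omega
    rw [hM]
    intro h
    exact hN (Nat.dvd_of_mul_dvd_mul_left (by norm_num) (show 3 * 3 ∣ 3 * Nat.card N from h))
  have hcM : c ∈ M := ⟨c * b⁻¹, hcb, 1, by simp⟩
  obtain ⟨l, ⟨n, hn', k, rfl⟩, hl⟩ := conj_zpowers h9 (⟨1, one_mem N, 1, by simp⟩ : b ∈ M) hcM hb hc
  -- strip the power
  refine ⟨(b ^ k)⁻¹ * n * b ^ k, ?_, ?_⟩
  · have : (b ^ k)⁻¹ = b ^ (2 * k) := by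
      refine inv_eq_of_mul_eq_one_right ?_
      rw [← pow_add, show k + 2 * k = 3 * k by ring, pow_mul, hb3, one_pow]
    have h := hbpow (2 * k) n hn'
    rwa [← this, inv_inv] at h
  obtain ⟨i, hi⟩ := Subgroup.mem_zpowers_iff.1 hl
  have hib : b ^ i * b⁻¹ ∈ N := by
    rw [hi]
    have e : n * b ^ k * c * (n * b ^ k)⁻¹ * b⁻¹ =
        n * (b ^ k * (c * b⁻¹) * (b ^ k)⁻¹) * (b * n⁻¹ * b⁻¹) := by
      have hc' : b ^ k * b = b * b ^ k := by rw [← pow_succ, ← pow_succ']
      calc n * b ^ k * c * (n * b ^ k)⁻¹ * b⁻¹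
          = n * (b ^ k * (c * b⁻¹) * (b ^ k)⁻¹) * ((b ^ k * b) * (b ^ k)⁻¹ * n⁻¹ * b⁻¹) := by group
        _ = _ := by rw [hc']; group
    rw [e]
    exact mul_mem (mul_mem hn' (hbpow k _ hcb)) (hn _ (inv_mem hn'))
  have hone : b ^ i * b⁻¹ = 1 := by
    rw [← orderOf_eq_one_iff]
    have h1 := Subgroup.orderOf_dvd_natCard N hib
    have h2 : orderOf (b ^ i * b⁻¹) ∣ 3 := by
      refine orderOf_dvd_of_pow_eq_one ?_
      rw [← zpow_natCast, ← zpow_neg_one b, ← zpow_add, ← zpow_mul, mul_comm, zpow_mul, zpow_natCast,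
        hb3, one_zpow]
    rcases (Nat.dvd_prime (by norm_num)).1 h2 with h | h
    · exact h
    · exact absurd (h ▸ h1) hN
  rw [mul_inv_eq_one.1 hone] at hi
  calc (b ^ k)⁻¹ * n * b ^ k * c * ((b ^ k)⁻¹ * n * b ^ k)⁻¹
      = (b ^ k)⁻¹ * (n * b ^ k * c * (n * b ^ k)⁻¹) * b ^ k := by group
    _ = (b ^ k)⁻¹ * b * b ^ k := by rw [← hi]
    _ = b := by rw [mul_assoc, ← pow_succ', pow_succ, inv_mul_cancel_left]

end generic

/-- central in no subgroup of order 27 of `L` -/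
def Noncentral {G : Type*} [Group G] (L : Subgroup G) (c : G) : Prop :=
  ∀ P : Subgroup G, P ≤ L → Nat.card P = 27 → c ∈ P → ∃ y ∈ P, c * y ≠ y * c

variable {G : Type*} [Group G] [Finite G] {z : G}
  {Q : Subgroup (Subgroup.centralizer ({z} : Set G))} [Q.Normal]
  {e : (Subgroup.centralizer ({z} : Set G)) ⧸ Q ≃* Spor.Co1}
  {ψ : leechLattice → Q ⧸ Subgroup.center Q}

theorem three_signs (c : Co0) (hc : c ∈ signs) : three * c * three⁻¹ ∈ signs := by
  obtain ⟨d, rfl⟩ := mem_signs.1 hc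
  obtain ⟨d', -, he⟩ := conj_signAut tau d
  rw [three_eq, he]
  exact mem_signs.2 ⟨d', rfl⟩

/-- the class in the monomial group -/
theorem class_three (S : Setting z Q e ψ) {x : Q} (hx : ψ (axisVec none) = QuotientGroup.mk x)
    {c : G} (hcz : c ∈ Subgroup.centralizer ({z} : Set G))
    (hcL : c ∈ Subgroup.centralizer ({z, vG x} : Set G)) (hc3 : orderOf c = 3)
    (hnc : Noncentral (Subgroup.centralizer ({z, vG x} : Set G)) c) :
    ∃ γ ∈ crossStab, (QuotientGroup.mk γ : Spor.Co1) * phi e ⟨c, hcz⟩ * (QuotientGroup.mk γ : Spor.Co1)⁻¹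
      = QuotientGroup.mk three := by
  classical
  haveI : Fact (Nat.Prime 3) := ⟨Nat.prime_three⟩
  set L := Subgroup.centralizer ({z, vG x} : Set G)
  let π : Co0 →* Spor.Co1 := QuotientGroup.mk' (Subgroup.center Co0)
  let ι : L →* Subgroup.centralizer ({z} : Set G) := Subgroup.inclusion (joint_le x)
  have hlift : ∀ l : L, ∃ γ : crossStab, π γ.1 = phi e (ι l) := by
    intro l
    have h : phi e (ι l) ∈ crossStab.map π := by
      rw [← joint_image S hx]
      exact ⟨ι l, Subgroup.mem_subgroupOf.2 l.2, rfl⟩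
    obtain ⟨γ, hγ, hγe⟩ := h
    exact ⟨⟨γ, hγ⟩, hγe⟩
  choose γf hγf using hlift
  have hwell : ∀ γ δ : crossStab, π γ.1 = π δ.1 → permOf γ = permOf δ := by
    intro γ δ h
    have hmem : (γ⁻¹ * δ : crossStab).1 ∈ signs := center_le_crossStab (QuotientGroup.eq.1 h)
    obtain ⟨a, ha, hae⟩ := hmem
    rw [show a = γ⁻¹ * δ from Subtype.ext hae, SetLike.mem_coe, MonoidHom.mem_ker, map_mul, map_inv,
      inv_mul_eq_one] at ha
    exact ha
  let θ : L →* M24 := MonoidHom.mk' (fun l => permOf (γf l)) fun l l' => by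
    rw [← map_mul]
    refine hwell _ _ ?_
    rw [hγf, map_mul, map_mul, Subgroup.coe_mul, map_mul, hγf, hγf]
  have hθs : Function.Surjective θ := by
    intro σ
    obtain ⟨h, h1, h2⟩ := lift_axis S hx (permAut_mem σ)
    have hL : (h : G) ∈ L := Subgroup.mem_centralizer_iff.2 (by
      rintro u (rfl | rfl)
      · exact (Subgroup.mem_centralizer_singleton_iff.1 h.2).symm
      · exact h2.symm)
    refine ⟨⟨h, hL⟩, ?_⟩
    show permOf (γf ⟨h, hL⟩) = σ
    rw [← permOf_permAut σ]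
    refine hwell _ _ ?_
    rw [hγf]
    exact h1
  have hQ25 : ∀ q : Q, q ^ 2 ^ 25 = 1 := fun q => by
    rw [← S.setting.2.2.2.1]; exact pow_card_eq_one'
  have hker : IsPGroup 2 θ.ker := by
    rintro ⟨l, hl⟩
    have hs : (γf l).1 ∈ signs := ⟨γf l, hl, rfl⟩
    have h2 : phi e (ι l) * phi e (ι l) = 1 := by
      rw [← hγf, ← map_mul, signs_sq hs, map_one]
    rw [← map_mul] at h2
    have h3 := hQ25 ⟨_, phi_eq_one.1 h2⟩
    refine ⟨26, Subtype.ext ?_⟩
    show l ^ 2 ^ 26 = 1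
    rw [show (2 : ℕ) ^ 26 = 2 * 2 ^ 25 by rw [← pow_succ'], pow_mul, pow_two]
    exact Subtype.ext (congrArg (fun q : Q => vG q) h3)
  have hθinj : ∀ P : Subgroup L, IsPGroup 3 P → ∀ a ∈ P, θ a = 1 → a = 1 := by
    intro P hP a ha h
    obtain ⟨k, hk⟩ := hker ⟨a, h⟩
    obtain ⟨m, hm⟩ := hP ⟨a, ha⟩
    have h1 : a ^ 2 ^ k = 1 := congrArg Subtype.val hk
    have h2 : a ^ 3 ^ m = 1 := congrArg Subtype.val hm
    exact orderOf_eq_one_iff.1 (Nat.eq_one_of_dvd_coprimes
      (((by norm_num : Nat.Coprime 2 3).pow_left k).pow_right m)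
      (orderOf_dvd_of_pow_eq_one h1) (orderOf_dvd_of_pow_eq_one h2))
  set cL : L := ⟨c, hcL⟩ with hcLdef
  have hcL3 : orderOf cL = 3 := by rw [← Subgroup.orderOf_coe]; exact hc3
  have hzp : IsPGroup 3 (Subgroup.zpowers cL) :=
    IsPGroup.of_card (n := 1) (by rw [Nat.card_zpowers, hcL3, pow_one])
  have hx3 : orderOf (θ cL) = 3 := by
    refine orderOf_eq_prime (by rw [← map_pow, ← hcL3, pow_orderOf_eq_one, map_one]) fun h => ?_
    have h1 := hθinj _ hzp cL (Subgroup.mem_zpowers cL) h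
    rw [h1, orderOf_one] at hcL3
    norm_num at hcL3
  rcases three_classes hx3 with ⟨g, hg⟩ | ⟨P, hP27, hxP, hcomm⟩
  · -- the fixed-point-free class
    set γ0 := γf cL with hγ0
    have hπ3 : π γ0.1 ^ 3 = 1 := by
      rw [hγf, ← map_pow, show (ι cL) ^ 3 = 1 from Subtype.ext (show c ^ 3 = 1 by
        rw [← hc3, pow_orderOf_eq_one]), map_one]
    set β : crossStab := γ0 ^ 4
    have hπβ : π β.1 = phi e ⟨c, hcz⟩ := by
      rw [Subgroup.coe_pow, map_pow, pow_succ, hπ3, one_mul, hγf]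
      rfl
    have hβ3 : β.1 ^ 3 = 1 := by
      have hc : γ0.1 ^ 3 ∈ Subgroup.center Co0 := (QuotientGroup.eq_one_iff _).1 (by
        show π (γ0.1 ^ 3) = 1
        rw [map_pow, hπ3])
      have h2 : (⟨γ0.1 ^ 3, hc⟩ : Subgroup.center Co0) ^ 2 = 1 := by
        rw [← card_center_co0]; exact pow_card_eq_one'
      have h2' : (γ0.1 ^ 3) ^ 2 = 1 := congrArg Subtype.val h2
      rw [Subgroup.coe_pow, ← pow_mul, show 4 * 3 = 3 * 2 * 2 by norm_num, pow_mul, pow_mul, h2', one_pow]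
    set β' : crossStab := ⟨permAut g, permAut_mem g⟩ * β * ⟨permAut g, permAut_mem g⟩⁻¹ with hβ'
    have hperm : permOf β' = tau := by
      have h4 : permOf β = θ cL := by
        rw [map_pow]
        show θ cL ^ 4 = θ cL
        rw [← pow_mod_orderOf, hx3, pow_one]
      rw [hβ', map_mul, map_mul, map_inv, permOf_permAut, h4, hg]
    have hmem : β'.1 * three⁻¹ ∈ signs := by
      refine ⟨β' * ⟨permAut tau, permAut_mem tau⟩⁻¹, ?_, ?_⟩
      · rw [SetLike.mem_coe, MonoidHom.mem_ker, map_mul, map_inv, hperm, permOf_permAut, mul_inv_cancel]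
      · rw [three_eq]; rfl
    have hβ'3 : orderOf β'.1 = 3 := by
      refine orderOf_eq_prime ?_ fun h => ?_
      · rw [hβ', Subgroup.coe_mul, Subgroup.coe_mul, Subgroup.coe_inv, conj_pow, hβ3, mul_one, mul_inv_cancel]
      · have : tau = 1 := by rw [← hperm, show β' = 1 from Subtype.ext h, map_one]
        have h2 := congrArg (fun u : M24 => u.1 p0) this
        exact tauF_facts.2 p0 ((tau_apply p0).symm.trans h2)
    obtain ⟨n, hn, hnb⟩ := coset_three (N := signs) orderOf_three (by rw [card_signs]; norm_num)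
      three_signs hβ'3 hmem
    refine ⟨n * permAut g, mul_mem (signs_le hn) (permAut_mem g), ?_⟩
    rw [← hπβ]
    show π (n * permAut g) * π β.1 * (π (n * permAut g))⁻¹ = π three
    rw [← map_inv, ← map_mul, ← map_mul, ← hnb]
    refine congrArg π ?_
    show n * permAut g * β.1 * (n * permAut g)⁻¹ = n * (permAut g * β.1 * (permAut g)⁻¹) * n⁻¹
    group
  · -- a central class is excluded
    exfalso
    set H := P.comap θ with hH
    have hHcard : Nat.card H = Nat.card θ.ker * 27 := by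
      have h1 := Cfsg.Agent.H92.MonsterCross.card_map_mul θ H
      rw [hH, Subgroup.map_comap_eq_self_of_surjective hθs, hP27,
        inf_eq_right.2 (fun a ha => show θ a ∈ P by rw [MonoidHom.mem_ker.1 ha]; exact one_mem P)] at h1
      rw [hH]
      omega
    obtain ⟨k, hk⟩ := IsPGroup.iff_card.1 hker
    obtain ⟨P1, hP1⟩ := (hzp.comap_subtype (K := H)).exists_le_sylow
    have hP1c : Nat.card (P1 : Subgroup H) = 27 := by
      rw [Sylow.card_eq_multiplicity, hHcard, hk, Nat.factorization_mul (by norm_num) (by norm_num),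
        Finsupp.add_apply, Nat.factorization_eq_zero_of_not_dvd (fun h =>
          absurd (Nat.Prime.dvd_of_dvd_pow Nat.prime_three h) (by norm_num)), zero_add,
        show (27 : ℕ) = 3 ^ 3 from rfl, Nat.Prime.factorization_pow Nat.prime_three, Finsupp.single_eq_same]
    set P2 : Subgroup L := (P1 : Subgroup H).map H.subtype with hP2
    have hP2p : IsPGroup 3 P2 := P1.isPGroup'.map _
    have hcP2 : cL ∈ P2 := ⟨⟨cL, hxP⟩, hP1 (Subgroup.mem_subgroupOf.2 (Subgroup.mem_zpowers cL)), rfl⟩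
    have hcard : Nat.card (P2.map L.subtype) = 27 := by
      rw [Subgroup.card_map_of_injective Subtype.val_injective, hP2,
        Subgroup.card_map_of_injective Subtype.val_injective, hP1c]
    obtain ⟨y, ⟨yL, hyP, hyy⟩, hne⟩ := hnc (P2.map L.subtype) (Subgroup.map_subtype_le _) hcard
      ⟨cL, hcP2, rfl⟩
    apply hne
    subst hyy
    have hyP2 : yL ∈ P2 := hyP
    obtain ⟨yH, -, hyH⟩ := hyP2
    have hyP' : θ yL ∈ P := hyH ▸ yH.2
    have h1 : cL * yL * cL⁻¹ * yL⁻¹ = 1 := by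
      refine hθinj P2 hP2p _ (mul_mem (mul_mem (mul_mem hcP2 hyP) (inv_mem hcP2)) (inv_mem hyP)) ?_
      rw [map_mul, map_mul, map_mul, map_inv, map_inv, hcomm _ hyP', mul_inv_cancel_right, mul_inv_cancel]
    exact congrArg (fun u : L => (u : G)) (mul_inv_eq_iff_eq_mul.1 (mul_inv_eq_one.1 h1))

end Cfsg.Agent.H65.MonsterThree
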