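import Cfsg.Agent.H65.MonsterThree.Swap

/-!
In a group of Monster type the centraliser of such a three-element, modulo it, is of Thompson
type.
-/

set_option autoImplicit false
set_option maxRecDepth 100000
set_option maxHeartbeats 1000000

namespace Cfsg.Agent.H65.MonsterThree

open Cfsg Cfsg.Agent.Golay Cfsg.Agent.H92.LeechTwo Cfsg.Agent.H92.MonsterQ
open Cfsg.Agent.H65.MonsterFive (phi phi_eq_one qm_facts orderOf_conj_eq mem_centralizer_zpowers
  negEl negEl_center negEl_ne_one)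

variable {G : Type*} [Group G] [Finite G] {z : G}
  {Q : Subgroup (Subgroup.centralizer ({z} : Set G))} [Q.Normal]
  {e : (Subgroup.centralizer ({z} : Set G)) ⧸ Q ≃* Spor.Co1}
  {ψ : leechLattice → Q ⧸ Subgroup.center Q}

omit [Finite G] in
theorem cent_of_commute {g : Co0}
    (h : (QuotientGroup.mk g : Spor.Co1) * QuotientGroup.mk three =
      QuotientGroup.mk three * QuotientGroup.mk g) : g ∈ cent := by
  rw [← QuotientGroup.mk_mul, ← QuotientGroup.mk_mul] at h
  have hc := QuotientGroup.eq.1 h.symm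
  set c := (three * g)⁻¹ * (g * three) with hc'
  have e1 : g * three * g⁻¹ = three * c := by
    have h2 : three * g * c = g * three := by rw [hc', mul_inv_cancel_left]
    rw [mul_assoc three g c, Subgroup.mem_center_iff.1 hc g, ← mul_assoc] at h2
    rw [← h2, mul_inv_cancel_right]
  have h5 : c ^ 3 = 1 := by
    have h3 : (g * three * g⁻¹) ^ 3 = 1 := by rw [conj_pow, three_pow_three]; group
    rw [e1, (show Commute three c from Subgroup.mem_center_iff.1 hc three).mul_pow, three_pow_three,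
      one_mul] at h3
    exact h3
  have h2 : c = 1 := by
    have hd := orderOf_dvd_natCard (⟨c, hc⟩ : Subgroup.center Co0)
    rw [card_center_co0, ← Subgroup.orderOf_coe] at hd
    have hd5 := orderOf_dvd_of_pow_eq_one h5
    exact orderOf_eq_one_iff.1 (Nat.eq_one_of_dvd_coprimes (by norm_num : Nat.Coprime 2 3) hd hd5)
  rw [h2, mul_one, mul_inv_eq_iff_eq_mul] at e1
  exact Subgroup.mem_centralizer_singleton_iff.2 e1

theorem shHom_center {c : cent} (hc : c.1 ∈ Subgroup.center Co0) : shHom c = 1 := by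
  rcases eq_or_ne c.1 1 with h | h
  · rw [show c = 1 from Subtype.ext h, map_one]
  · obtain ⟨u, -, huniq⟩ := (Nat.card_eq_two_iff' (1 : Subgroup.center Co0)).1 card_center_co0
    have e1 : c.1 = negEl := congrArg Subtype.val
      ((huniq ⟨c.1, hc⟩ fun e => h (congrArg Subtype.val e)).trans
        (huniq ⟨negEl, negEl_center⟩ fun e => negEl_ne_one (congrArg Subtype.val e)).symm)
    rw [show c = ⟨negEl, negEl_mem⟩ from Subtype.ext e1, shHom_neg]

theorem altHom_congr {γ δ : cent}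
    (h : (QuotientGroup.mk γ.1 : Spor.Co1) = QuotientGroup.mk δ.1) : altHom γ = altHom δ := by
  have hc : (γ⁻¹ * δ : cent).1 ∈ Subgroup.center Co0 := QuotientGroup.eq.1 h
  have := altHom_eq_one (shHom_center hc)
  rwa [map_mul, map_inv, inv_mul_eq_one] at this

theorem conj_eq_of_class (S : Setting z Q e ψ) {b : G} (hb3 : b ^ 3 = 1)
    (hbz : b ∈ Subgroup.centralizer ({z} : Set G)) {q : Q}
    (h : (QuotientGroup.mk (conjQ ⟨b, hbz⟩ q) : Q ⧸ Subgroup.center Q) = QuotientGroup.mk q) :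
    b * vG q = vG q * b := by
  obtain ⟨zQ, hzv, hz1, hz2, hZ⟩ := exists_zQ S
  rcases (hZ _).1 (QuotientGroup.eq.1 h) with h1 | h1
  · have : b * vG q * b⁻¹ = vG q := congrArg vG (inv_mul_eq_one.1 h1)
    exact mul_inv_eq_iff_eq_mul.1 this
  · exfalso
    have e1 : b * vG q * b⁻¹ = vG q * z := by
      have h2 := congrArg vG (inv_mul_eq_iff_eq_mul.1 h1)
      have h3 : vG q = b * vG q * b⁻¹ * z := h2.trans (congrArg (b * vG q * b⁻¹ * ·) hzv)
      have hzz : z * z = 1 := by rw [← hzv]; exact congrArg vG hz2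
      calc b * vG q * b⁻¹ = b * vG q * b⁻¹ * z * z := by rw [mul_assoc _ z z, hzz, mul_one]
        _ = vG q * z := by rw [← h3]
    have hbzc : b * z * b⁻¹ = z := by
      rw [Subgroup.mem_centralizer_singleton_iff.1 hbz, mul_inv_cancel_right]
    have key : ∀ n : ℕ, b ^ n * vG q * (b ^ n)⁻¹ = vG q * z ^ n := by
      intro n
      induction n with
      | zero => simp
      | succ n ih =>
        calc b ^ (n + 1) * vG q * (b ^ (n + 1))⁻¹ = b * (b ^ n * vG q * (b ^ n)⁻¹) * b⁻¹ := by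
              rw [pow_succ']; group
          _ = b * vG q * b⁻¹ * (b * z * b⁻¹) ^ n := by rw [ih, conj_pow]; group
          _ = vG q * z ^ (n + 1) := by rw [e1, hbzc, mul_assoc, ← pow_succ']
    have h5 := key 3
    rw [hb3, one_mul, inv_one, mul_one] at h5
    have hz3 : z ^ 3 = 1 := mul_eq_left.1 h5.symm
    have hz : z = 1 := by
      have hd := orderOf_dvd_of_pow_eq_one hz3
      rw [S.setting.1] at hd
      omega
    exact hz1 (vG_injective (hzv.trans hz))

theorem threeType (S : Setting z Q e ψ) {x : Q} (hx : ψ (axisVec none) = QuotientGroup.mk x)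
    {b : G} (hb3 : orderOf b = 3) (hbz : b ∈ Subgroup.centralizer ({z} : Set G))
    (hbs : b * vG x = vG x * b) (hbe : phi e ⟨b, hbz⟩ = QuotientGroup.mk three)
    (hnc : Noncentral (Subgroup.centralizer ({z, vG x} : Set G)) b)
    [((Subgroup.zpowers b).subgroupOf (Subgroup.centralizer (Subgroup.zpowers b : Set G))).Normal] :
    IsOfThompsonType (↥(Subgroup.centralizer (Subgroup.zpowers b : Set G)) ⧸
      (Subgroup.zpowers b).subgroupOf (Subgroup.centralizer (Subgroup.zpowers b : Set G))) := by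
  classical
  haveI : Fact (Nat.Prime 2) := ⟨Nat.prime_two⟩
  obtain ⟨zQ, hzv, hz1, hz2, hZ⟩ := exists_zQ S
  obtain ⟨hzQm, hconj⟩ := map_setting S
  obtain ⟨hex, hQcard, hzc, -, -⟩ := qm_facts S
  set Qm := Q.map (Subgroup.centralizer ({z} : Set G)).subtype with hQm
  have hzne : z ≠ 1 := fun h => hz1 (vG_injective (hzv.trans h))
  have hzz : z * z = 1 := by rw [← hzv]; exact congrArg vG hz2
  have hbz' : b * z = z * b := Subgroup.mem_centralizer_singleton_iff.1 hbz
  have hb3' : b ^ 3 = 1 := hb3 ▸ pow_orderOf_eq_one b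
  have hxz : vG x ≠ z := (isConj_of_type S hx (Cfsg.Agent.H92.LeechTwo.nrm_axis none)).2
  set B := Subgroup.zpowers b with hB
  set Cb := Subgroup.centralizer (B : Set G) with hCb
  have memCb : ∀ {g : G}, g ∈ Cb ↔ g * b = b * g := fun {g} => mem_centralizer_zpowers
  set T := B.subgroupOf Cb with hT
  -- an element of the three-group whose square is one
  have hB2 : ∀ u ∈ B, u * u = 1 → u = 1 := by
    intro u hu h2
    have h1 : orderOf u ∣ 3 := by
      have := Subgroup.orderOf_dvd_natCard B hu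
      rwa [hB, Nat.card_zpowers, hb3] at this
    have h3 : orderOf u ∣ 2 := orderOf_dvd_of_pow_eq_one (by rw [pow_two, h2])
    exact orderOf_eq_one_iff.1 (Nat.eq_one_of_dvd_coprimes (by norm_num : Nat.Coprime 3 2) h1 h3)
  have hmk : ∀ a a' : Cb, (QuotientGroup.mk a : Cb ⧸ T) = QuotientGroup.mk a' ↔
      (a : G)⁻¹ * a' ∈ B := by
    intro a a'
    rw [QuotientGroup.eq, hT, Subgroup.mem_subgroupOf, Subgroup.coe_mul, Subgroup.coe_inv]
  have hzCb : z ∈ Cb := memCb.2 hbz'.symm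
  set zb : Cb ⧸ T := QuotientGroup.mk ⟨z, hzCb⟩ with hzb
  set K : Subgroup G := Subgroup.centralizer ({z} : Set G) ⊓ Cb with hK
  let Φ : K →* Subgroup.centralizer ({zb} : Set (Cb ⧸ T)) := MonoidHom.mk'
    (fun k => ⟨QuotientGroup.mk ⟨k.1, k.2.2⟩, Subgroup.mem_centralizer_singleton_iff.2 (by
      rw [hzb, ← QuotientGroup.mk_mul, ← QuotientGroup.mk_mul]
      exact congrArg _ (Subtype.ext (Subgroup.mem_centralizer_singleton_iff.1 k.2.1)))⟩)
    fun a c => Subtype.ext rfl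
  have hΦs : Function.Surjective Φ := by
    rintro ⟨d, hd⟩
    obtain ⟨h, rfl⟩ := QuotientGroup.mk_surjective d
    have h1 := Subgroup.mem_centralizer_singleton_iff.1 hd
    rw [hzb, ← QuotientGroup.mk_mul, ← QuotientGroup.mk_mul, hmk] at h1
    simp only [Subgroup.coe_mul] at h1
    set u := ((h : G) * z)⁻¹ * (z * h) with hu
    have hhC : (h : G) ∈ Subgroup.centralizer ({z} : Set G) := by
      obtain ⟨i, hi⟩ := Subgroup.mem_zpowers_iff.1 h1
      have hzu : z * u = u * z := by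
        rw [← hi]
        exact ((show Commute z b from hbz'.symm).zpow_right i).eq
      have hw : (h : G)⁻¹ * z * h = z * u := by
        rw [hu]; group
      have hwu : u * u = 1 := by
        have e2 : (h : G)⁻¹ * z * h * ((h : G)⁻¹ * z * h) = 1 := by
          calc (h : G)⁻¹ * z * h * ((h : G)⁻¹ * z * h) = (h : G)⁻¹ * (z * z) * h := by group
            _ = 1 := by rw [hzz]; group
        rw [hw, mul_assoc, ← mul_assoc u z u, ← hzu, mul_assoc z u u, ← mul_assoc, hzz, one_mul] at e2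
        exact e2
      have hu1 := hB2 _ h1 hwu
      rw [hu, inv_mul_eq_one] at hu1
      exact Subgroup.mem_centralizer_singleton_iff.2 hu1
    exact ⟨⟨h, hhC, h.2⟩, Subtype.ext rfl⟩
  have hΦ1 : ∀ k : K, Φ k = 1 ↔ (k : G) ∈ B := by
    intro k
    rw [Subtype.ext_iff]
    show (QuotientGroup.mk (⟨k.1, k.2.2⟩ : Cb) : Cb ⧸ T) = 1 ↔ _
    rw [QuotientGroup.eq_one_iff, hT, Subgroup.mem_subgroupOf]
  -- into the centraliser in the isometry group
  let φK : K →* Spor.Co1 := (phi e).comp (Subgroup.inclusion (inf_le_left : K ≤ _))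
  have hbK : b ∈ K := ⟨hbz, memCb.2 rfl⟩
  have hφb : φK ⟨b, hbK⟩ = QuotientGroup.mk three := hbe
  have hlift : ∀ k : K, ∃ γ : cent, (QuotientGroup.mk γ.1 : Spor.Co1) = φK k := by
    intro k
    obtain ⟨γ, hγ⟩ := QuotientGroup.mk_surjective (φK k)
    refine ⟨⟨γ, cent_of_commute ?_⟩, hγ⟩
    rw [hγ, ← hφb, ← map_mul, ← map_mul]
    exact congrArg φK (Subtype.ext (memCb.1 k.2.2))
  choose γf hγf using hlift
  let χ : K →* (alternatingGroup (Fin 9)) := MonoidHom.mk' (fun k => altHom (γf k)) fun k k' => by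
    rw [← map_mul]
    refine altHom_congr ?_
    rw [hγf, map_mul, Subgroup.coe_mul, QuotientGroup.mk_mul, hγf, hγf]
  have hχ : ∀ (k : K) (γ : cent), (QuotientGroup.mk γ.1 : Spor.Co1) = φK k → χ k = altHom γ :=
    fun k γ h => altHom_congr ((hγf k).trans h.symm)
  let QK : Subgroup K := Qm.subgroupOf K
  haveI hQKn : QK.Normal := ⟨fun q hq k => hconj _ hq _ k.2.1⟩
  have hQK : ∀ k : K, k ∈ QK ↔ φK k = 1 := by
    intro k
    constructor
    · rintro ⟨c, hc, hck⟩
      exact phi_eq_one.2 (by rwa [show Subgroup.inclusion (inf_le_left : K ≤ _) k = c from Subtype.ext hck.symm])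
    · intro h
      exact ⟨_, phi_eq_one.1 h, rfl⟩
  have hQB : ∀ u : G, u ∈ Qm → u ∈ B → u = 1 := by
    intro u hu hu'
    have h1 : orderOf u ∣ 3 := by
      have := Subgroup.orderOf_dvd_natCard B hu'
      rwa [hB, Nat.card_zpowers, hb3] at this
    have h2 := Subgroup.orderOf_dvd_natCard Qm hu
    rw [hQcard] at h2
    exact orderOf_eq_one_iff.1
      (Nat.eq_one_of_dvd_coprimes ((by norm_num : Nat.Coprime 3 2).pow_right 25) h1 h2)
  -- the kernel of the map to the wreath product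
  have hχker : ∀ k : K, χ k = 1 ↔ ∃ i : ℤ, k * (⟨b, hbK⟩ : K) ^ i ∈ QK := by
    intro k
    constructor
    · intro h
      obtain ⟨i, hi⟩ := Subgroup.mem_zpowers_iff.1 (altHom_kernel h)
      refine ⟨-i, (hQK _).2 ?_⟩
      rw [map_mul, map_zpow, hφb, zpow_neg, hi, hγf, mul_inv_cancel]
    · rintro ⟨i, hi⟩
      have h2 := (hQK _).1 hi
      rw [map_mul, map_zpow, hφb] at h2
      have h3 : φK k = ((QuotientGroup.mk three : Spor.Co1) ^ i)⁻¹ := eq_inv_of_mul_eq_one_left h2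
      rw [hχ k (⟨three, three_mem⟩ ^ i)⁻¹ (by
        rw [h3, Subgroup.coe_inv, Subgroup.coe_zpow, QuotientGroup.mk_inv, QuotientGroup.mk_zpow]),
        map_inv, map_zpow, altHom_eq_one shHom_three, one_zpow, inv_one]
  have hχs : Function.Surjective χ := by
    intro w
    obtain ⟨γ, rfl⟩ := altHom_surjective w
    obtain ⟨h, hh⟩ := exists_lift S γ.1
    have hh' : phi e h = QuotientGroup.mk γ.1 := hh.symm
    have hcmem : (h : G) * b * (h : G)⁻¹ * b⁻¹ ∈ Qm := by
      refine ⟨h * ⟨b, hbz⟩ * h⁻¹ * ⟨b, hbz⟩⁻¹, phi_eq_one (e := e) |>.1 ?_, rfl⟩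
      rw [map_mul, map_mul, map_mul, map_inv, map_inv, hh', hbe, ← QuotientGroup.mk_inv,
        ← QuotientGroup.mk_mul, ← QuotientGroup.mk_mul,
        show γ.1 * three * γ.1⁻¹ = three by
          rw [Subgroup.mem_centralizer_singleton_iff.1 γ.2, mul_inv_cancel_right],
        mul_inv_cancel]
    obtain ⟨n, hn, hnb⟩ := coset_three hb3
      (fun h5 => by rw [hQcard] at h5; norm_num at h5)
      (fun n hn => hconj n hn b hbz) ((orderOf_conj_eq _ b).trans hb3) hcmem
    have hkK : n * (h : G) ∈ K := by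
      refine ⟨mul_mem (Subgroup.map_subtype_le _ hn) h.2, memCb.2 (mul_inv_eq_iff_eq_mul.1 ?_)⟩
      conv_rhs => rw [← hnb]
      group
    refine ⟨⟨n * h, hkK⟩, hχ _ γ ?_⟩
    obtain ⟨c, hc, hcn⟩ := hn
    show _ = phi e (Subgroup.inclusion (inf_le_left : K ≤ _) ⟨n * h, hkK⟩)
    rw [show Subgroup.inclusion (inf_le_left : K ≤ _) ⟨n * h, hkK⟩ = c * h from
      Subtype.ext (by rw [Subgroup.coe_mul]; exact congrArg (· * (h : G)) hcn.symm),
      map_mul, phi_eq_one.2 hc, one_mul, hh']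
  have hbΦ : Φ ⟨b, hbK⟩ = 1 := (hΦ1 _).2 (Subgroup.mem_zpowers b)
  have hkerΦ : Φ.ker ≤ χ.ker := by
    intro k hk
    obtain ⟨i, hi⟩ := Subgroup.mem_zpowers_iff.1 ((hΦ1 k).1 hk)
    refine (hχker k).2 ⟨-i, ?_⟩
    rw [show k = (⟨b, hbK⟩ : K) ^ i from Subtype.ext (by rw [Subgroup.coe_zpow]; exact hi.symm),
      zpow_neg, mul_inv_cancel]
    exact one_mem QK
  let χD : Subgroup.centralizer ({zb} : Set (Cb ⧸ T)) →* (alternatingGroup (Fin 9)) :=
    Φ.liftOfSurjective hΦs ⟨χ, hkerΦ⟩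
  have hχD : ∀ k, χD (Φ k) = χ k := fun k => MonoidHom.liftOfRightInverse_comp_apply _ _ _ _ k
  have hχDs : Function.Surjective χD := fun w => by
    obtain ⟨k, hk⟩ := hχs w
    exact ⟨Φ k, (hχD k).trans hk⟩
  set R := QK.map Φ with hR
  haveI hRn : R.Normal := Subgroup.Normal.map hQKn Φ hΦs
  have hker : χD.ker = R := by
    ext d
    obtain ⟨k, rfl⟩ := hΦs d
    rw [MonoidHom.mem_ker, hχD, hχker]
    constructor
    · rintro ⟨i, hi⟩
      refine ⟨_, hi, ?_⟩
      rw [map_mul, map_zpow, hbΦ, one_zpow, mul_one]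
    · rintro ⟨q, hq, hqk⟩
      have h2 : Φ (k⁻¹ * q) = 1 := by rw [map_mul, map_inv, hqk, inv_mul_cancel]
      obtain ⟨i, hi⟩ := Subgroup.mem_zpowers_iff.1 ((hΦ1 _).1 h2)
      refine ⟨i, ?_⟩
      rw [show (⟨b, hbK⟩ : K) ^ i = k⁻¹ * q from Subtype.ext (by rw [Subgroup.coe_zpow]; exact hi),
        mul_inv_cancel_left]
      exact hq
  -- the part of the large group
  set H := Qm ⊓ Cb with hH
  let f : H →* R := MonoidHom.mk'
    (fun u => ⟨Φ ⟨u.1, Subgroup.map_subtype_le _ u.2.1, u.2.2⟩, _, u.2.1, rfl⟩)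
    fun a c => Subtype.ext (map_mul Φ ⟨a.1, Subgroup.map_subtype_le _ a.2.1, a.2.2⟩ ⟨c.1, Subgroup.map_subtype_le _ c.2.1, c.2.2⟩)
  have hf : Function.Bijective f := by
    refine ⟨(injective_iff_map_eq_one f).2 fun u hu => Subtype.ext ?_, ?_⟩
    · exact hQB _ u.2.1 ((hΦ1 _).1 (congrArg Subtype.val hu))
    · rintro ⟨r, k, hk, rfl⟩
      exact ⟨⟨k.1, hk, k.2.2⟩, Subtype.ext rfl⟩
  let fe : H ≃* R := MulEquiv.ofBijective f hf
  -- fixed classes
  have hfixq : ∀ (i : Fin 256), ∃ q : Q, ψ (Rv i) = QuotientGroup.mk q ∧ vG q ∈ Cb := by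
    intro i
    obtain ⟨q, hq⟩ := QuotientGroup.mk_surjective (ψ (Rv i))
    refine ⟨q, hq.symm, memCb.2 (conj_eq_of_class S hb3' hbz ?_).symm⟩
    have e1 := psi_smul S (g := three) (h := ⟨b, hbz⟩) hbe.symm hq.symm
    rw [three_Rv, ← hq] at e1
    exact e1.symm
  have hclass : ∀ (q : Q) (v : leechLattice), vG q ∈ Cb → ψ v = QuotientGroup.mk q → Cg v (Rv (ix v)) := by
    intro q v hq hv
    refine cg_ix ((psi_cg S).1 ?_)
    have e1 := psi_smul S (g := three) (h := ⟨b, hbz⟩) hbe.symm hv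
    rw [show conjQ (⟨b, hbz⟩ : Subgroup.centralizer ({z} : Set G)) q = q from vG_injective (by
      show b * vG q * b⁻¹ = vG q
      rw [← memCb.1 hq, mul_inv_cancel_right]), ← hv] at e1
    exact e1
  have hHcard : Nat.card H = 512 := by
    let j : Q →* G := (Subgroup.centralizer ({z} : Set G)).subtype.comp Q.subtype
    set Hq := Cb.comap j with hHq
    have hHH : Nat.card Hq = Nat.card H := by
      refine Nat.card_congr (Equiv.ofBijective (fun q : Hq => (⟨j q.1, ⟨_, q.1.2, rfl⟩, q.2⟩ : H)) ⟨?_, ?_⟩)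
      · exact fun a c h => Subtype.ext (vG_injective (congrArg (fun u : H => (u : G)) h))
      · rintro ⟨u, ⟨c, hc, rfl⟩, hu⟩
        exact ⟨⟨⟨c, hc⟩, hu⟩, rfl⟩
    have h1 := Cfsg.Agent.H92.MonsterCross.card_map_mul (QuotientGroup.mk' (Subgroup.center Q)) Hq
    have hcle : Subgroup.center Q ≤ Hq := by
      intro c hc
      rcases (hZ c).1 hc with h | h <;> rw [h]
      · exact one_mem _
      · show j zQ ∈ Cb
        rw [show j zQ = z from hzv]
        exact hzCb
    rw [QuotientGroup.ker_mk', inf_eq_right.2 hcle, cq S] at h1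
    have h2 : Nat.card (Hq.map (QuotientGroup.mk' (Subgroup.center Q))) = 256 := by
      refine Eq.trans (Nat.card_congr (Equiv.ofBijective
        (fun i : Fin 256 => (⟨ψ (Rv i), ?_⟩ : Hq.map (QuotientGroup.mk' (Subgroup.center Q)))) ⟨?_, ?_⟩).symm) ?_
      · obtain ⟨q, hq, hqC⟩ := hfixq i
        exact ⟨q, hqC, hq.symm⟩
      · intro i i' h
        exact Rv_cg_injective ((psi_cg S).1 (congrArg Subtype.val h))
      · rintro ⟨_, q, hq, rfl⟩
        obtain ⟨v, hv⟩ := S.iso.2.1 (QuotientGroup.mk q)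
        exact ⟨ix v, Subtype.ext (((psi_cg S).2 (hclass q v hq hv)).symm.trans hv)⟩
      · simp
    omega
  have hodd : Odd (Nat.card B) := by rw [hB, Nat.card_zpowers, hb3]; decide
  have hext : IsExtraspecial 2 R := by
    refine Cfsg.Agent.H92.isExtraspecial_of_mulEquiv fe ?_
    refine Cfsg.Agent.H92.fixed_isExtraspecial hex hzc hzne hodd (fun a ha q hq => hconj q hq a ?_) ?_
    · exact (Subgroup.zpowers_le.2 hbz) ha
    · rw [← hCb, ← hH, hHcard]; norm_num
  have hRcard : Nat.card R = 2 ^ (2 * 4 + 1) := by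
    rw [← Nat.card_congr fe.toEquiv, hHcard]; rfl
  -- the generalised Fitting subgroup
  have hRp : IsPGroup 2 R := IsPGroup.of_card hRcard
  have hcore : pCore 2 (Subgroup.centralizer ({zb} : Set (Cb ⧸ T))) = R := by
    refine le_antisymm ?_ (Cfsg.Agent.Cores.le_pCore hRp)
    have hn : ((pCore 2 (Subgroup.centralizer ({zb} : Set (Cb ⧸ T)))).map χD).Normal :=
      Subgroup.Normal.map inferInstance χD hχDs
    have h := alt_two_normal _ (Cfsg.Agent.Cores.pCore_isPGroup.map χD)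
    rw [← hker]
    intro d hd
    refine MonoidHom.mem_ker.2 ?_
    have h' : χD d ∈ (pCore 2 (Subgroup.centralizer ({zb} : Set (Cb ⧸ T)))).map χD := ⟨d, hd, rfl⟩
    rwa [h, Subgroup.mem_bot] at h'
  have hcent : Subgroup.centralizer (R : Set (Subgroup.centralizer ({zb} : Set (Cb ⧸ T)))) ≤ R := by
    intro d hd
    obtain ⟨k, rfl⟩ := hΦs d
    rw [← hker, MonoidHom.mem_ker, hχD, hχ k (γf k) (hγf k)]
    refine altHom_eq_one (shHom_eq_one fun i => (psi_cg S).1 ?_)
    obtain ⟨q, hq, hqC⟩ := hfixq i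
    have hqK : vG q ∈ K := ⟨(q : Subgroup.centralizer ({z} : Set G)).2, hqC⟩
    have e1 := psi_smul S (g := (γf k).1) (h := Subgroup.inclusion (inf_le_left : K ≤ _) k) (hγf k) hq
    rw [e1, hq]
    congr 1
    refine vG_injective ?_
    show (k : G) * vG q * (k : G)⁻¹ = vG q
    have hm : (⟨vG q, hqK⟩ : K) ∈ QK := ⟨_, q.2, rfl⟩
    have hcomm := Subgroup.mem_centralizer_iff.1 hd _ ⟨_, hm, rfl⟩
    rw [← map_mul, ← map_mul] at hcomm
    have h3 : Φ (k * ⟨vG q, hqK⟩ * k⁻¹ * ⟨vG q, hqK⟩⁻¹) = 1 := by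
      rw [map_mul, map_mul, map_inv, map_inv, ← hcomm, map_mul, mul_inv_cancel_right, mul_inv_cancel]
    have h4 : k * ⟨vG q, hqK⟩ * k⁻¹ * ⟨vG q, hqK⟩⁻¹ ∈ QK :=
      mul_mem (hQKn.conj_mem _ hm k) (inv_mem hm)
    have h5 := hQB _ h4 ((hΦ1 _).1 h3)
    exact mul_inv_eq_one.1 h5
  have hFit : generalizedFittingSubgroup (Subgroup.centralizer ({zb} : Set (Cb ⧸ T))) = R := by
    rw [← hcore]
    refine (Cfsg.Agent.Components.genFitting_eq_pCore_iff (p := 2)).2 ?_
    rw [hcore]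
    exact hcent
  -- the involution
  have hzbne : zb ≠ 1 := fun h => by
    rw [hzb, QuotientGroup.eq_one_iff, hT, Subgroup.mem_subgroupOf] at h
    exact hzne (hB2 z h hzz)
  obtain ⟨g, hgb, hgz⟩ := exists_mover S hx hb3 hbz hbs hbe hnc
  have hgC : g ∈ Cb := memCb.2 hgb
  have hxCb : vG x ∈ Cb := memCb.2 hbs.symm
  have hsetting : IsExtraspecialCentralizerSetting zb R 4 := by
    refine ⟨orderOf_eq_prime ?_ hzbne, hFit, hext, hRcard, QuotientGroup.mk ⟨g, hgC⟩, ?_, ?_⟩
    · rw [hzb, pow_two, ← QuotientGroup.mk_mul, QuotientGroup.eq_one_iff, hT, Subgroup.mem_subgroupOf]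
      rw [show ((⟨z, hzCb⟩ * ⟨z, hzCb⟩ : Cb) : G) = 1 from hzz]
      exact one_mem B
    · have hxK : vG x ∈ K := ⟨(x : Subgroup.centralizer ({z} : Set G)).2, hxCb⟩
      have e1 : (QuotientGroup.mk ⟨g, hgC⟩ : Cb ⧸ T) * zb * (QuotientGroup.mk ⟨g, hgC⟩ : Cb ⧸ T)⁻¹ =
          QuotientGroup.mk ⟨vG x, hxCb⟩ := by
        rw [hzb, ← QuotientGroup.mk_inv, ← QuotientGroup.mk_mul, ← QuotientGroup.mk_mul]
        exact congrArg _ (Subtype.ext hgz)
      refine ⟨e1 ▸ (Φ ⟨vG x, hxK⟩).2, ?_⟩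
      refine ⟨⟨vG x, hxK⟩, ⟨_, x.2, rfl⟩, Subtype.ext ?_⟩
      exact e1.symm
    · intro h
      rw [hzb, ← QuotientGroup.mk_inv, ← QuotientGroup.mk_mul, ← QuotientGroup.mk_mul, hmk] at h
      simp only [Subgroup.coe_mul, Subgroup.coe_inv, hgz] at h
      have hxx : vG x * z = z * vG x :=
        Subgroup.mem_centralizer_singleton_iff.1 (x : Subgroup.centralizer ({z} : Set G)).2
      have hmem : (vG x)⁻¹ * z ∈ Qm := mul_mem (inv_mem ⟨_, x.2, rfl⟩) hzQm
      exact hxz (inv_mul_eq_one.1 (hQB _ hmem h))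
  exact ⟨zb, R, hRn, hsetting,
    ⟨(QuotientGroup.quotientMulEquivOfEq hker.symm).trans
      (QuotientGroup.quotientKerEquivOfSurjective χD hχDs)⟩⟩

end Cfsg.Agent.H65.MonsterThree
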