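import Cfsg.Agent.H65.MonsterThree.Data
import Cfsg.Agent.H65.MonsterFive.Group

/-!
The centraliser in the Mathieu group of degree 24 of a fixed-point-free element of order three has
at most 504 elements.
-/

set_option autoImplicit false
set_option maxRecDepth 100000

namespace Cfsg.Agent.H65.MonsterThree

open Cfsg Cfsg.Agent.Golay
open scoped Pointwise

theorem tauT_ok : inM24 tauT = true := by decide +kernel

/-- the element of order three -/
noncomputable def tau : M24 := ⟨mkPerm tauT, mem_M24_of_inM24 tauT_ok⟩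

/-- its action on the points -/
def tauF : GolayPt → GolayPt := tblFun tauT

theorem tau_apply (q : GolayPt) : tau.1 q = tauF q := mkPerm_apply (validT_of_inM24 tauT_ok) q

/-- the first base point -/
def p0 : GolayPt := pt pairP.1

/-- the second base point -/
def p1 : GolayPt := pt pairP.2

/-- the auxiliary point -/
def p2 : GolayPt := pt thirdP

/-- the octad through a cycle and two further points -/
def octA (x y : GolayPt) : ℕ := (octL.getD (idx x) []).getD (idx y) 0

/-- the five points determining that octad -/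
def fiveA (x y : GolayPt) : Finset GolayPt :=
  {x, tauF x, tauF (tauF x), y, tauF y}

/-- different cycles -/
def apart (x y : GolayPt) : Bool := decide (y ≠ x ∧ y ≠ tauF x ∧ y ≠ tauF (tauF x))

theorem tauF_facts : (∀ q, tauF (tauF (tauF q)) = q) ∧ (∀ q, tauF q ≠ q) := by decide +kernel

theorem octA_facts : ∀ x y : GolayPt, apart x y = true →
    octA x y < 2 ^ 24 ∧ inCode (octA x y) = true ∧ popCnt (octA x y) = 8 ∧
    (fiveA x y).card = 5 ∧ ∀ q ∈ fiveA x y, q ∈ ptSet (octA x y) := by
  decide +kernel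

theorem code_weight : ∀ c ∈ codeList, c = 0 ∨ 8 ≤ popCnt c := by decide +kernel

theorem octad_unique {S T : Finset GolayPt} (hS : S ∈ supports (golayCode : Set (GolayPt → ZMod 2)))
    (hT : T ∈ supports (golayCode : Set (GolayPt → ZMod 2))) (hS8 : S.card = 8) (hT8 : T.card = 8)
    {F : Finset GolayPt} (hF : 5 ≤ F.card) (hFS : F ⊆ S) (hFT : F ⊆ T) : S = T := by
  have hsym := symmDiff_mem_supports hS hT
  have hcard : (symmDiff S T).card ≤ 6 := by
    have h1 : F.card ≤ (S ∩ T).card := Finset.card_le_card (Finset.subset_inter hFS hFT)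
    have h2 : symmDiff S T = (S \ T) ∪ (T \ S) := rfl
    rw [h2]
    refine (Finset.card_union_le _ _).trans ?_
    have h3 := Finset.card_sdiff_add_card_inter S T
    have h4 := Finset.card_sdiff_add_card_inter T S
    rw [Finset.inter_comm T S] at h4
    omega
  have hm := mem_supports_iff.1 hsym
  rcases code_weight _ hm with h | h
  · have : symmDiff S T = ∅ := by rw [← ptSet_maskOf (symmDiff S T), h, ptSet_zero]
    exact symmDiff_eq_bot.1 this
  · exfalso
    rw [← card_ptSet, ptSet_maskOf] at h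
    omega

/-- the permitted images of the base pair -/
def okPair (x y : GolayPt) : Bool :=
  apart x y && decide (∃ a : GolayPt, a ∈ ptSet (octA x y) ∧ apart x a = true ∧ apart y a = true ∧
    x ∈ ptSet (octA y a))

theorem base_facts : apart p0 p1 = true ∧ p2 ∈ ptSet (octA p0 p1) ∧ apart p0 p2 = true ∧
    apart p1 p2 = true ∧ p0 ∈ ptSet (octA p1 p2) ∧
    ((Finset.univ : Finset (GolayPt × GolayPt)).filter fun p => okPair p.1 p.2 = true).card = 168 := by
  decide +kernel

/-- the centraliser -/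
noncomputable def centTau : Subgroup M24 := Subgroup.centralizer {tau}

theorem commute_tauF {σ : M24} (h : σ ∈ centTau) (q : GolayPt) : σ.1 (tauF q) = tauF (σ.1 q) := by
  rw [← tau_apply, ← tau_apply]
  exact congrFun (congrArg (fun u : M24 => (u.1 : GolayPt → GolayPt))
    (Subgroup.mem_centralizer_singleton_iff.1 h)) q

theorem apart_map {σ : M24} (h : σ ∈ centTau) {x y : GolayPt} (hxy : apart x y = true) :
    apart (σ.1 x) (σ.1 y) = true := by
  simp only [apart, decide_eq_true_eq] at hxy ⊢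
  rw [← commute_tauF h, ← commute_tauF h]
  exact ⟨σ.1.injective.ne hxy.1, σ.1.injective.ne hxy.2.1, σ.1.injective.ne hxy.2.2⟩

theorem octA_map {σ : M24} (h : σ ∈ centTau) {x y : GolayPt} (hxy : apart x y = true) :
    σ.1 • ptSet (octA x y) = ptSet (octA (σ.1 x) (σ.1 y)) := by
  obtain ⟨hlt, hc, h8, -, hmem⟩ := octA_facts x y hxy
  obtain ⟨hlt', hc', h8', h5', hmem'⟩ := octA_facts _ _ (apart_map h hxy)
  refine octad_unique (smul_mem_supports σ.2 ((ptSet_mem_supports_iff hlt).2 (inCode_iff.1 hc)))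
    ((ptSet_mem_supports_iff hlt').2 (inCode_iff.1 hc'))
    (by rw [Finset.card_smul_finset, card_ptSet, h8]) (by rw [card_ptSet, h8'])
    (F := fiveA (σ.1 x) (σ.1 y)) h5'.ge ?_ hmem'
  intro q hq
  obtain ⟨r, hr, rfl⟩ : ∃ r, r ∈ fiveA x y ∧ σ.1 r = q := by
    simp only [fiveA, Finset.mem_insert, Finset.mem_singleton, ← commute_tauF h] at hq ⊢
    rcases hq with e | e | e | e | e <;> exact ⟨_, by tauto, e.symm⟩
  exact Finset.mem_smul_finset.2 ⟨r, hmem r hr, rfl⟩

theorem okPair_image (σ : centTau) : okPair (σ.1.1 p0) (σ.1.1 p1) = true := by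
  obtain ⟨h01, h2, h02, h12, h0, -⟩ := base_facts
  simp only [okPair, Bool.and_eq_true, decide_eq_true_eq]
  refine ⟨apart_map σ.2 h01, σ.1.1 p2, ?_, apart_map σ.2 h02, apart_map σ.2 h12, ?_⟩
  · rw [← octA_map σ.2 h01]
    exact Finset.smul_mem_smul_finset h2
  · rw [← octA_map σ.2 h12]
    exact Finset.smul_mem_smul_finset h0

/-- the stabiliser of the base pair -/
noncomputable def baseFix : Subgroup centTau where
  carrier := {σ | σ.1.1 p0 = p0 ∧ σ.1.1 p1 = p1}
  one_mem' := ⟨rfl, rfl⟩
  mul_mem' := by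
    rintro a b ⟨a0, a1⟩ ⟨b0, b1⟩
    exact ⟨show a.1.1 (b.1.1 p0) = p0 by rw [b0, a0], show a.1.1 (b.1.1 p1) = p1 by rw [b1, a1]⟩
  inv_mem' := by
    rintro a ⟨a0, a1⟩
    exact ⟨show a.1.1.symm p0 = p0 by rw [Equiv.symm_apply_eq, a0],
      show a.1.1.symm p1 = p1 by rw [Equiv.symm_apply_eq, a1]⟩

theorem sixM_mem : ∀ q : GolayPt, q ∈ ptSet sixM ↔
    q = p0 ∨ q = tauF p0 ∨ q = tauF (tauF p0) ∨ q = p1 ∨ q = tauF p1 ∨ q = tauF (tauF p1) := by
  decide +kernel

theorem sixChain_ok : checkChain [] sixM sixChain = true ∧ chainCard sixChain = 3 := by decide +kernel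

theorem card_baseFix : Nat.card baseFix ≤ 3 := by
  have h := card_stabGrp sixChain_ok.1
  rw [sixChain_ok.2] at h
  rw [← h]
  refine Nat.card_le_card_of_injective (fun σ => (⟨σ.1.1.1, σ.1.1.2, by simp, fun q hq => ?_⟩ :
    stabGrp [] sixM)) fun a b e => Subtype.ext (Subtype.ext (Subtype.ext
      (congrArg (fun u : stabGrp [] sixM => (u : Equiv.Perm GolayPt)) e)))
  obtain ⟨h0, h1⟩ := σ.2
  rcases (sixM_mem q).1 hq with rfl | rfl | rfl | rfl | rfl | rfl <;>
    simp only [commute_tauF σ.1.2, h0, h1]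

theorem card_centTau : Nat.card centTau ≤ 504 := by
  rw [baseFix.card_eq_card_quotient_mul_card_subgroup]
  refine le_trans (Nat.mul_le_mul ?_ card_baseFix) (le_refl (168 * 3))
  have hc := base_facts.2.2.2.2.2
  rw [← Fintype.card_coe, ← Nat.card_eq_fintype_card] at hc
  rw [← hc]
  refine Nat.card_le_card_of_injective
    (fun c => ⟨(c.out.1.1 p0, c.out.1.1 p1), Finset.mem_filter.2 ⟨Finset.mem_univ _, okPair_image c.out⟩⟩)
    fun c c' h => ?_
  rw [← QuotientGroup.out_eq' c, ← QuotientGroup.out_eq' c']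
  refine QuotientGroup.eq.2 ?_
  have h0 : c.out.1.1 p0 = c'.out.1.1 p0 := congrArg (fun x => (x.1 : GolayPt × GolayPt).1) h
  have h1 : c.out.1.1 p1 = c'.out.1.1 p1 := congrArg (fun x => (x.1 : GolayPt × GolayPt).2) h
  exact ⟨show c.out.1.1.symm (c'.out.1.1 p0) = p0 by rw [← h0, Equiv.symm_apply_apply],
    show c.out.1.1.symm (c'.out.1.1 p1) = p1 by rw [← h1, Equiv.symm_apply_apply]⟩

end Cfsg.Agent.H65.MonsterThree
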